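import Mathlib
import Cfsg.Agent.Lib.Helper68.MG.Defs

/-! S3620 (Marggraf), primitive case: the extension lemma E (helper22, for helper68's farm MG). -/

set_option autoImplicit false

namespace Cfsg.Agent.Lib.Helper68.MG

universe u

theorem E_exists {Ω : Type u} [Fintype Ω] [DecidableEq Ω] (G : Subgroup (Equiv.Perm Ω)) (hprim : Prim G)
    (F : Set Ω) (hF : F.Nonempty) (h2 : 2 ≤ Fᶜ.ncard) (hJ : Jor G F) : ∃ B : Set Ω, Ext G F B := by
  classical
  obtain ⟨L, hL⟩ : ∃ L : Set Ω, L = Fᶜ := ⟨_, rfl⟩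
  have hLm : ∀ x, x ∈ L ↔ x ∉ F := fun x => by rw [hL]; rfl
  rw [← hL] at h2
  have hcard : ∀ (μ : Equiv.Perm Ω) (A : Set Ω), (μ '' A).ncard = A.ncard := fun μ A =>
    Set.ncard_image_of_injective A μ.injective
  have hex : ∃ g ∈ G, g '' L ≠ L ∧ ¬ Disjoint (g '' L) L := by
    by_contra hcon
    push Not at hcon
    rcases hprim.2 L (fun g hg => by
      by_cases h : g '' L = L
      · exact Or.inl h
      · exact Or.inr (hcon g hg h)) with h | h
    · have := Set.ncard_le_one_iff_subsingleton.2 h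
      omega
    · obtain ⟨f, hf⟩ := hF
      have : f ∈ L := h ▸ Set.mem_univ f
      exact (hLm f).1 this hf
  have hexn : ∃ n, ∃ g ∈ G, g '' L ≠ L ∧ ¬ Disjoint (g '' L) L ∧ (g '' L \ L).ncard = n := by
    obtain ⟨g, hg, h1, h2⟩ := hex
    exact ⟨_, g, hg, h1, h2, rfl⟩
  obtain ⟨g, hg, hgne, hgnd, hge⟩ := Nat.find_spec hexn
  have hmin : ∀ μ ∈ G, μ '' L ≠ L → ¬ Disjoint (μ '' L) L → Nat.find hexn ≤ (μ '' L \ L).ncard :=
    fun μ hμ h1 h2 => Nat.find_min' hexn ⟨μ, hμ, h1, h2, rfl⟩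
  obtain ⟨B, hB⟩ : ∃ B : Set Ω, B = g '' L \ L := ⟨_, rfl⟩
  have hBm : ∀ x, x ∈ B ↔ (x ∈ g '' L ∧ x ∉ L) := fun x => by rw [hB]; rfl
  rw [← hB] at hge
  have hBF : B ⊆ F := by
    intro x hx
    by_contra h
    exact ((hBm x).1 hx).2 ((hLm x).2 h)
  have hBne : B.Nonempty := by
    rw [Set.nonempty_iff_ne_empty]
    intro h0
    apply hgne
    refine Set.eq_of_subset_of_ncard_le ?_ ?_ (Set.toFinite _)
    · rw [hB, Set.sdiff_eq_empty] at h0
      exact h0
    · rw [hcard]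
  obtain ⟨z, hz1, hz2⟩ := Set.not_disjoint_iff.1 hgnd
  have hlt : B.ncard < L.ncard := by
    rw [← hcard g L]
    refine Set.ncard_lt_ncard ?_ (Set.toFinite _)
    refine ⟨fun x hx => ((hBm x).1 hx).1, fun hsub => ?_⟩
    exact ((hBm z).1 (hsub hz1)).2 hz2
  have hcompl : ∀ x, x ∉ F \ B ↔ (x ∈ L ∨ x ∈ g '' L) := by
    intro x
    constructor
    · intro hx
      by_cases hxF : x ∈ F
      · right
        have hxB : x ∈ B := by
          by_contra h
          exact hx ⟨hxF, h⟩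
        exact ((hBm x).1 hxB).1
      · left
        exact (hLm x).2 hxF
    · rintro (hx | hx) hxF
      · exact (hLm x).1 hx hxF.1
      · exact hxF.2 ((hBm x).2 ⟨hx, fun h => (hLm x).1 h hxF.1⟩)
  have sub1 : ∀ k ∈ Fx G F, k ∈ Fx G (F \ B) := fun k hk => ⟨hk.1, fun f hf => hk.2 f hf.1⟩
  have sub2 : ∀ k ∈ Fx G F, g * k * g⁻¹ ∈ Fx G (F \ B) := by
    intro k hk
    refine ⟨G.mul_mem (G.mul_mem hg hk.1) (G.inv_mem hg), fun f hf => ?_⟩
    have h1 : g⁻¹ f ∈ F := by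
      by_contra h
      have h3 : f ∈ g '' L := ⟨g⁻¹ f, (hLm _).2 h, by simp⟩
      exact (hcompl f).2 (Or.inr h3) hf
    rw [Equiv.Perm.mul_apply, Equiv.Perm.mul_apply, hk.2 _ h1]
    simp
  have toz : ∀ x, x ∉ F \ B → ∃ h ∈ Fx G (F \ B), h x = z := by
    intro x hx
    rcases (hcompl x).1 hx with hxL | hxL
    · obtain ⟨k, hk, hkx⟩ := hJ x ((hLm x).1 hxL) z ((hLm z).1 hz2)
      exact ⟨k, sub1 k hk, hkx⟩
    · obtain ⟨x', hx', rfl⟩ := hxL
      obtain ⟨z', hz', hzz⟩ := hz1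
      obtain ⟨k, hk, hkx⟩ := hJ x' ((hLm x').1 hx') z' ((hLm z').1 hz')
      refine ⟨g * k * g⁻¹, sub2 k hk, ?_⟩
      have hgi : g⁻¹ (g x') = x' := by simp
      rw [Equiv.Perm.mul_apply, Equiv.Perm.mul_apply, hgi, hkx, hzz]
  have hjor : Jor G (F \ B) := by
    intro x hx y hy
    obtain ⟨h1, hh1, e1⟩ := toz x hx
    obtain ⟨h2, hh2, e2⟩ := toz y hy
    refine ⟨h2⁻¹ * h1, (Fx G (F \ B)).mul_mem ((Fx G (F \ B)).inv_mem hh2) hh1, ?_⟩
    rw [Equiv.Perm.mul_apply, e1, ← e2]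
    simp
  have hblk : ∀ μ ∈ Fx G (F \ B), μ '' B = B ∨ Disjoint (μ '' B) B := by
    intro μ hμ
    have hpres : ∀ x, x ∉ F \ B → μ x ∉ F \ B := by
      intro x hx hμx
      have h1 := hμ.2 _ hμx
      have h3 : μ x = x := μ.injective h1
      rw [h3] at hμx
      exact hx hμx
    have hLB : ∀ x, x ∉ F \ B → μ x ∉ L → μ x ∈ B := by
      intro x hx hnL
      rcases (hcompl _).1 (hpres x hx) with h | h
      · exact absurd h hnL
      · exact (hBm _).2 ⟨h, hnL⟩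
    by_cases hμL : μ '' L = L
    · left
      refine Set.eq_of_subset_of_ncard_le ?_ ?_ (Set.toFinite _)
      · rintro _ ⟨b, hb, rfl⟩
        apply hLB b (fun h => h.2 hb)
        intro hbL
        rw [← hμL] at hbL
        obtain ⟨l, hl, hlb⟩ := hbL
        have : l = b := μ.injective hlb
        rw [this] at hl
        exact ((hBm b).1 hb).2 hl
      · rw [hcard]
    · right
      have hsubB : μ '' L \ L ⊆ B := by
        rintro _ ⟨⟨l, hl, rfl⟩, hnL⟩
        exact hLB l ((hcompl l).2 (Or.inl hl)) hnL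
      have hnd : ¬ Disjoint (μ '' L) L := by
        intro hd
        have h1 : μ '' L ⊆ B := by
          intro x hx
          exact hsubB ⟨hx, fun h => Set.disjoint_left.1 hd hx h⟩
        have h3 := Set.ncard_le_ncard h1
        rw [hcard] at h3
        omega
      have h1 := hmin μ hμ.1 hμL hnd
      have h3 : μ '' L \ L = B := Set.eq_of_subset_of_ncard_le hsubB (by rw [hge]; exact h1)
      rw [Set.disjoint_left]
      rintro _ ⟨b, hb, rfl⟩ hμb
      rw [← h3] at hμb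
      obtain ⟨l, hl, hlb⟩ := hμb.1
      have : l = b := μ.injective hlb
      rw [this] at hl
      exact ((hBm b).1 hb).2 hl
  exact ⟨B, hBF, hBne, hjor, hblk, hL ▸ hlt⟩

end Cfsg.Agent.Lib.Helper68.MG
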